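import Groth.Prelude.Def_W4c1stackycurvesGalP1
import Mathlib.LinearAlgebra.Projectivization.Action
import Mathlib.LinearAlgebra.Dimension.Constructions
import Mathlib.FieldTheory.Galois.Basic
import Mathlib.LinearAlgebra.Matrix.GeneralLinearGroup.Defs
import Mathlib.Data.Set.Card

/-!
# Strong three-transitivity on the projective line with Galois descent
-/

set_option autoImplicit false

universe u

noncomputable section

namespace GrothLib.ThreePoints

open Projectivization W4c1stackycurves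

variable {k K : Type u} [Field k] [Field K]

local notation "V" => Fin 2 → K
local notation "P" => Projectivization K (Fin 2 → K)

/-- A basis adapted to three distinct points. -/
theorem exists_adapted (x₀ x₁ x₂ : P) (h01 : x₀ ≠ x₁) (h02 : x₀ ≠ x₂) (h12 : x₁ ≠ x₂) :
    ∃ B : Module.Basis (Fin 2) K V, ∃ (h0 : B 0 ≠ 0) (h1 : B 1 ≠ 0) (h2 : B 0 + B 1 ≠ 0),
      mk K (B 0) h0 = x₀ ∧ mk K (B 1) h1 = x₁ ∧ mk K (B 0 + B 1) h2 = x₂ := by
  have hli : LinearIndependent K ![x₀.rep, x₁.rep] := (linearIndependent_pair_iff_ne).2 h01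
  let B₀ : Module.Basis (Fin 2) K V := basisOfLinearIndependentOfCardEqFinrank hli (by simp)
  have hB : ∀ i, B₀ i = ![x₀.rep, x₁.rep] i := fun i => by simp [B₀]
  have hsum : B₀.repr x₂.rep 0 • x₀.rep + B₀.repr x₂.rep 1 • x₁.rep = x₂.rep := by
    have := B₀.sum_repr x₂.rep
    simpa [Fin.sum_univ_two, hB] using this
  set a := B₀.repr x₂.rep 0
  set b := B₀.repr x₂.rep 1
  have ha : a ≠ 0 := fun h => h12 (by
    rw [← mk_rep x₁, ← mk_rep x₂, mk_eq_mk_iff']
    rw [h, zero_smul, zero_add] at hsum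
    refine ⟨b⁻¹, ?_⟩
    rw [← hsum, inv_smul_smul₀ (fun hb => x₂.rep_nonzero (by rw [← hsum, hb, zero_smul]))])
  have hb : b ≠ 0 := fun h => h02 (by
    rw [← mk_rep x₀, ← mk_rep x₂, mk_eq_mk_iff']
    rw [h, zero_smul, add_zero] at hsum
    refine ⟨a⁻¹, ?_⟩
    rw [← hsum, inv_smul_smul₀ ha])
  let B := B₀.unitsSMul ![Units.mk0 a ha, Units.mk0 b hb]
  have e0 : B 0 = a • x₀.rep := by simp [B, hB, Module.Basis.unitsSMul_apply, Units.smul_def]
  have e1 : B 1 = b • x₁.rep := by simp [B, hB, Module.Basis.unitsSMul_apply, Units.smul_def]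
  refine ⟨B, B.ne_zero 0, B.ne_zero 1, by rw [e0, e1, hsum]; exact x₂.rep_nonzero, ?_, ?_, ?_⟩
  · conv_rhs => rw [← mk_rep x₀]
    exact (mk_eq_mk_iff' K _ _ _ _).2 ⟨a, e0.symm⟩
  · conv_rhs => rw [← mk_rep x₁]
    exact (mk_eq_mk_iff' K _ _ _ _).2 ⟨b, e1.symm⟩
  · conv_rhs => rw [← mk_rep x₂]
    exact (mk_eq_mk_iff' K _ _ _ _).2 ⟨1, by rw [e0, e1, hsum, one_smul]⟩

/-- Two linear maps agreeing projectively on three distinct points are proportional. -/
theorem eq_smul_of_three (S T : V →ₗ[K] V) (hS : Function.Injective S) (hT : Function.Injective T)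
    (x₀ x₁ x₂ : P) (h01 : x₀ ≠ x₁) (h02 : x₀ ≠ x₂) (h12 : x₁ ≠ x₂)
    (e₀ : Projectivization.map T hT x₀ = Projectivization.map S hS x₀)
    (e₁ : Projectivization.map T hT x₁ = Projectivization.map S hS x₁)
    (e₂ : Projectivization.map T hT x₂ = Projectivization.map S hS x₂) :
    ∃ c : K, T = c • S := by
  obtain ⟨B, h0, h1, h2, rfl, rfl, rfl⟩ := exists_adapted x₀ x₁ x₂ h01 h02 h12
  rw [map_mk, map_mk, mk_eq_mk_iff'] at e₀ e₁ e₂
  obtain ⟨c₀, e₀⟩ := e₀
  obtain ⟨c₁, e₁⟩ := e₁
  obtain ⟨c₂, e₂⟩ := e₂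
  have hz : (c₂ - c₀) • B 0 + (c₂ - c₁) • B 1 = 0 := by
    apply hS
    simp only [map_add, map_smul, map_zero]
    rw [map_add, map_add, smul_add, ← e₀, ← e₁] at e₂
    rw [sub_smul, sub_smul]
    linear_combination (norm := module) e₂
  have hc := Fintype.linearIndependent_iff.1 B.linearIndependent ![c₂ - c₀, c₂ - c₁]
    (by simpa [Fin.sum_univ_two] using hz)
  have hc0 : c₂ = c₀ := sub_eq_zero.1 (by simpa using hc 0)
  have hc1 : c₂ = c₁ := sub_eq_zero.1 (by simpa using hc 1)
  refine ⟨c₂, B.ext fun i => ?_⟩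
  fin_cases i
  · show T (B 0) = c₂ • S (B 0)
    rw [← e₀, hc0]
  · show T (B 1) = c₂ • S (B 1)
    rw [← e₁, hc1]

theorem exists_map_three (x y : Fin 3 → P) (hx : Function.Injective x) (hy : Function.Injective y) :
    ∃ (T : V ≃ₗ[K] V), ∀ i, Projectivization.map (T : V →ₗ[K] V) T.injective (x i) = y i := by
  obtain ⟨B, h0, h1, h2, e0, e1, e2⟩ := exists_adapted (x 0) (x 1) (x 2)
    (hx.ne (by decide)) (hx.ne (by decide)) (hx.ne (by decide))
  obtain ⟨C, k0, k1, k2, f0, f1, f2⟩ := exists_adapted (y 0) (y 1) (y 2)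
    (hy.ne (by decide)) (hy.ne (by decide)) (hy.ne (by decide))
  refine ⟨B.equiv C (Equiv.refl _), fun i => ?_⟩
  fin_cases i
  · show Projectivization.map _ _ (x 0) = y 0
    rw [← e0, ← f0, map_mk, mk_eq_mk_iff']
    exact ⟨1, by simp⟩
  · show Projectivization.map _ _ (x 1) = y 1
    rw [← e1, ← f1, map_mk, mk_eq_mk_iff']
    exact ⟨1, by simp⟩
  · show Projectivization.map _ _ (x 2) = y 2
    rw [← e2, ← f2, map_mk, mk_eq_mk_iff']
    exact ⟨1, by simp⟩

variable [Algebra k K]

/-- The conjugate of a linear map by a field automorphism. -/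
def conjMap (σ : K ≃ₐ[k] K) (T : V →ₗ[K] V) : V →ₗ[K] V :=
  Matrix.toLin' ((LinearMap.toMatrix' T).map σ)

theorem conjMap_galVec (σ : K ≃ₐ[k] K) (T : V →ₗ[K] V) (v : V) :
    conjMap σ T (galVec σ (Fin 2) v) = galVec σ (Fin 2) (T v) := by
  ext i
  rw [galVec_apply, conjMap, Matrix.toLin'_apply, ← LinearMap.toMatrix'_mulVec T v]
  exact ((σ : K →+* K).map_mulVec _ v i).symm

theorem conjMap_injective (σ : K ≃ₐ[k] K) (T : V →ₗ[K] V) (hT : Function.Injective T) :
    Function.Injective (conjMap σ T) := by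
  intro v w h
  have hv : galVec σ (Fin 2) (galVec σ.symm (Fin 2) v) = v := by ext i; simp [galVec_apply]
  have hw : galVec σ (Fin 2) (galVec σ.symm (Fin 2) w) = w := by ext i; simp [galVec_apply]
  rw [← hv, ← hw, conjMap_galVec, conjMap_galVec] at h
  rw [← hv, ← hw, hT (galVec_injective σ (Fin 2) h)]

theorem map_conjMap_galP (σ : K ≃ₐ[k] K) (T : V →ₗ[K] V) (hT : Function.Injective T) (x : P) :
    Projectivization.map (conjMap σ T) (conjMap_injective σ T hT) (galP σ x) =
      galP σ (Projectivization.map T hT x) := by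
  induction x using Projectivization.ind with
  | h v hv =>
    simp only [galP, map_mk, mk_eq_mk_iff']
    exact ⟨1, by rw [conjMap_galVec, one_smul]⟩

theorem galP_galP_symm (σ : K ≃ₐ[k] K) (x : P) : galP σ (galP σ.symm x) = x := by
  induction x using Projectivization.ind with
  | h v hv =>
    simp only [galP, map_mk, mk_eq_mk_iff']
    exact ⟨1, by ext i; simp [galVec_apply]⟩

variable [FiniteDimensional k K] [IsGalois k K]

/-- A map on three points commuting with Galois is given by a matrix over the base field. -/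
theorem exists_matrix_three (S : Set P) (h3 : S.ncard = 3)
    (hS : ∀ (σ : K ≃ₐ[k] K), ∀ x ∈ S, galP σ x ∈ S) (φ : P → P) (hinj : Set.InjOn φ S)
    (hφ : ∀ (σ : K ≃ₐ[k] K), ∀ x ∈ S, φ (galP σ x) = galP σ (φ x)) :
    ∃ g : Matrix.GeneralLinearGroup (Fin 2) k, ∀ x ∈ S,
      (Matrix.GeneralLinearGroup.toLin ((Matrix.GeneralLinearGroup.map (algebraMap k K)) g)) • x = φ x := by
  obtain ⟨x₀, x₁, x₂, h01, h02, h12, rfl⟩ := Set.ncard_eq_three.1 h3
  let x : Fin 3 → P := ![x₀, x₁, x₂]
  have hx : Function.Injective x := by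
    intro i j h
    fin_cases i <;> fin_cases j <;>
      simp [x, h01, h02, h12, h01.symm, h02.symm, h12.symm] at h ⊢
  have hmem : ∀ i, x i ∈ ({x₀, x₁, x₂} : Set P) := fun i => by fin_cases i <;> simp [x]
  obtain ⟨T, hT⟩ := exists_map_three x (fun i => φ (x i)) hx
    fun i j h => hx (hinj (hmem i) (hmem j) h)
  have hTS : ∀ z ∈ ({x₀, x₁, x₂} : Set P),
      Projectivization.map (T : V →ₗ[K] V) T.injective z = φ z := by
    intro z hz
    rcases hz with rfl | rfl | rfl
    · exact hT 0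
    · exact hT 1
    · exact hT 2
  set A := LinearMap.toMatrix' (T : V →ₗ[K] V)
  have hscal : ∀ σ : K ≃ₐ[k] K, ∃ c : K, A.map σ = c • A := by
    intro σ
    have hval : ∀ z ∈ ({x₀, x₁, x₂} : Set P),
        Projectivization.map (conjMap σ (T : V →ₗ[K] V)) (conjMap_injective σ _ T.injective) z =
          Projectivization.map (T : V →ₗ[K] V) T.injective z := by
      intro z hz
      obtain ⟨w, hw, rfl⟩ : ∃ w ∈ ({x₀, x₁, x₂} : Set P), galP σ w = z :=
        ⟨galP σ.symm z, hS σ.symm z hz, galP_galP_symm σ z⟩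
      rw [map_conjMap_galP σ (T : V →ₗ[K] V) T.injective, hTS w hw, hTS _ hz, hφ σ w hw]
    obtain ⟨c, hc⟩ := eq_smul_of_three (T : V →ₗ[K] V) (conjMap σ (T : V →ₗ[K] V)) T.injective
      (conjMap_injective σ _ T.injective) x₀ x₁ x₂ h01 h02 h12 (hval _ (by simp)) (hval _ (by simp))
      (hval _ (by simp))
    refine ⟨c, ?_⟩
    have := congrArg LinearMap.toMatrix' hc
    rwa [conjMap, LinearMap.toMatrix'_toLin', map_smul] at this
  obtain ⟨i, j, hij⟩ : ∃ i j, A i j ≠ 0 := by
    by_contra hall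
    simp only [not_exists, not_not] at hall
    have : (T : V →ₗ[K] V) = 0 := LinearMap.toMatrix'.injective (by rw [map_zero]; ext i j; exact hall i j)
    exact x₀.rep_nonzero (T.injective (by rw [map_zero]; exact LinearMap.congr_fun this x₀.rep))
  set N := (A i j)⁻¹ • A with hN
  have hfix : ∀ a b, N a b ∈ Set.range (algebraMap k K) := by
    intro a b
    refine (IsGalois.mem_range_algebraMap_iff_fixed (F := k) (N a b)).2 fun σ => ?_
    obtain ⟨c, hc⟩ := hscal σ
    have hab : σ (A a b) = c * A a b := congrFun (congrFun hc a) b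
    have hij' : σ (A i j) = c * A i j := congrFun (congrFun hc i) j
    have hc0 : c ≠ 0 := fun h => hij (σ.injective (by rw [hij', h, zero_mul, map_zero]))
    simp only [hN, Matrix.smul_apply, smul_eq_mul, map_mul, map_inv₀, hab, hij']
    field_simp
  choose M hM using hfix
  let M' : Matrix (Fin 2) (Fin 2) k := Matrix.of M
  have hMN : M'.map (algebraMap k K) = N := by ext a b; exact hM a b
  have hdA : A.det ≠ 0 := fun h => by
    have h2 : LinearMap.det (T : V →ₗ[K] V) = 0 := by rw [← LinearMap.det_toMatrix']; exact h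
    exact (LinearEquiv.isUnit_det' T).ne_zero h2
  have hdM : M'.det ≠ 0 := by
    intro h
    have : N.det = 0 := by
      rw [← hMN]
      exact (RingHom.map_det (algebraMap k K) M').symm.trans (by rw [h, map_zero])
    rw [hN, Matrix.det_smul] at this
    simp [hij, hdA] at this
  refine ⟨Matrix.GeneralLinearGroup.mkOfDetNeZero M' hdM, fun z hz => ?_⟩
  rw [← hTS z hz]
  induction z using Projectivization.ind with
  | h v hv =>
    rw [smul_mk, map_mk, mk_eq_mk_iff']
    refine ⟨(A i j)⁻¹, ?_⟩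
    show (A i j)⁻¹ • T v = Matrix.mulVec (M'.map (algebraMap k K)) v
    rw [hMN, hN, Matrix.smul_mulVec, LinearMap.toMatrix'_mulVec]
    rfl

omit [FiniteDimensional k K] [IsGalois k K] in
/-- The three rational points. -/
theorem exists_rational_not_mem (S : Set P) (hS : S.Finite) (h : S.ncard < 3) :
    ∃ r : P, r ∉ S ∧ ∀ σ : K ≃ₐ[k] K, galP σ r = r := by
  let v : Fin 3 → V := ![![1, 0], ![0, 1], ![1, 1]]
  have hv : ∀ i, v i ≠ 0 := by
    intro i h
    fin_cases i
    · simpa [v] using congrFun h 0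
    · simpa [v] using congrFun h 1
    · simpa [v] using congrFun h 0
  let r : Fin 3 → P := fun i => mk K (v i) (hv i)
  have hr : Function.Injective r := by
    intro i j h
    obtain ⟨a, ha⟩ := (mk_eq_mk_iff' K _ _ _ _).1 h
    have h0 := congrFun ha 0
    have h1 := congrFun ha 1
    fin_cases i <;> fin_cases j <;> simp [v] at h0 h1 ⊢ <;> simp_all
  obtain ⟨i, hi⟩ : ∃ i, r i ∉ S := by
    by_contra hall
    simp only [not_exists, not_not] at hall
    have := Set.ncard_le_ncard (s := Set.range r) (t := S) (by rintro _ ⟨i, rfl⟩; exact hall i) hS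
    rw [Set.ncard_range_of_injective hr, Nat.card_fin] at this
    omega
  refine ⟨r i, hi, fun σ => ?_⟩
  simp only [r, galP, map_mk, mk_eq_mk_iff']
  refine ⟨1, ?_⟩
  ext a
  fin_cases i <;> fin_cases a <;> simp [v, galVec_apply]

theorem exists_matrix (n : ℕ) : ∀ (S : Set P), S.Finite → S.ncard + n = 3 →
    (∀ (σ : K ≃ₐ[k] K), ∀ x ∈ S, galP σ x ∈ S) → ∀ φ : P → P, Set.InjOn φ S →
    (∀ (σ : K ≃ₐ[k] K), ∀ x ∈ S, φ (galP σ x) = galP σ (φ x)) →
    ∃ g : Matrix.GeneralLinearGroup (Fin 2) k, ∀ x ∈ S,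
      (Matrix.GeneralLinearGroup.toLin ((Matrix.GeneralLinearGroup.map (algebraMap k K)) g)) • x = φ x := by
  classical
  induction n with
  | zero => exact fun S _ h hS φ hinj hφ => exists_matrix_three S (by simpa using h) hS φ hinj hφ
  | succ n ih =>
    intro S hfin h hS φ hinj hφ
    obtain ⟨r, hr, hrσ⟩ := exists_rational_not_mem (k := k) S hfin (by omega)
    obtain ⟨r', hr', hr'σ⟩ := exists_rational_not_mem (k := k) (φ '' S) (hfin.image φ)
      (by have := Set.ncard_image_le (f := φ) hfin; omega)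
    have hne : ∀ x ∈ S, x ≠ r := fun x hx e => hr (e ▸ hx)
    obtain ⟨g, hg⟩ := ih (insert r S) (hfin.insert r)
      (by rw [Set.ncard_insert_of_notMem hr hfin]; omega)
      (by
        rintro σ x (rfl | hx)
        · rw [hrσ]; exact Set.mem_insert _ _
        · exact Set.mem_insert_of_mem _ (hS σ x hx))
      (Function.update φ r r')
      (by
        rw [Set.injOn_insert hr]
        refine ⟨fun x hx y hy e => hinj hx hy ?_, ?_⟩
        · rwa [Function.update_of_ne (hne x hx), Function.update_of_ne (hne y hy)] at e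
        · rintro ⟨x, hx, e⟩
          rw [Function.update_self, Function.update_of_ne (hne x hx)] at e
          exact hr' ⟨x, hx, e⟩)
      (by
        rintro σ x (rfl | hx)
        · rw [hrσ, Function.update_self, hr'σ]
        · rw [Function.update_of_ne (hne x hx), Function.update_of_ne (hne _ (hS σ x hx)), hφ σ x hx])
    exact ⟨g, fun x hx => by rw [hg x (Set.mem_insert_of_mem _ hx), Function.update_of_ne (hne x hx)]⟩

end GrothLib.ThreePoints
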